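import Groth.Prelude.Def_FlatCA
import Mathlib.RingTheory.Ideal.MinimalPrime.Basic
import Mathlib.RingTheory.Localization.Ideal
import Mathlib.RingTheory.Localization.AtPrime.Basic
import Mathlib.RingTheory.Ideal.AssociatedPrime.Basic
import Mathlib.RingTheory.Finiteness.Ideal
import Mathlib.Algebra.Module.LocalizedModule.Basic

/-! Basic facts about weakly associated primes (`FlatCA.weakAss`) and `FlatCA.ass`. -/

namespace Groth.Agent.WeakAss

universe u v w

variable {R : Type u} [CommRing R] {M : Type v} [AddCommGroup M] [Module R M]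
  {N : Type w} [AddCommGroup N] [Module R N]

lemma mem_ann {m : M} {a : R} : a ∈ (Submodule.span R {m}).annihilator ↔ a • m = 0 :=
  Submodule.mem_annihilator_span_singleton m a

lemma minimalPrimes_iff {I p : Ideal R} [hp : p.IsPrime] :
    p ∈ I.minimalPrimes ↔ I ≤ p ∧ ∀ f ∈ p, ∃ s ∉ p, ∃ n : ℕ, s * f ^ n ∈ I := by
  constructor
  · intro h
    refine ⟨h.1.2, fun f hf => ?_⟩
    by_contra hc
    push Not at hc
    obtain ⟨q, hq, hIq, hd⟩ := Ideal.exists_le_prime_disjoint I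
      (p.primeCompl ⊔ Submonoid.powers f) (Set.disjoint_left.mpr fun x hx hxs => by
        obtain ⟨s, hs, _, ⟨n, rfl⟩, rfl⟩ := Submonoid.mem_sup.mp hxs
        exact hc s hs n hx)
    have hqp : q ≤ p := fun x hx => by
      by_contra hxp
      exact Set.disjoint_left.mp hd hx (Submonoid.mem_sup_left hxp)
    exact Set.disjoint_left.mp hd (h.2 ⟨hq, hIq⟩ hqp hf)
      (Submonoid.mem_sup_right (Submonoid.mem_powers f))
  · rintro ⟨hIp, h⟩
    refine ⟨⟨hp, hIp⟩, fun q hq hqp f hf => ?_⟩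
    obtain ⟨s, hs, n, hn⟩ := h f hf
    exact hq.1.mem_of_pow_mem n ((hq.1.mem_or_mem (hq.2 hn)).resolve_left fun hsq => hs (hqp hsq))

lemma isPrime_of_mem {p : Ideal R} (h : p ∈ FlatCA.weakAss R M) : p.IsPrime := by
  obtain ⟨m, hm⟩ := h; exact hm.1.1

lemma mem_weakAss_iff {p : Ideal R} [p.IsPrime] :
    p ∈ FlatCA.weakAss R M ↔ ∃ m : M, (∀ a : R, a • m = 0 → a ∈ p) ∧
      ∀ f ∈ p, ∃ s ∉ p, ∃ n : ℕ, (s * f ^ n) • m = 0 := by
  refine exists_congr fun m => ?_
  rw [minimalPrimes_iff]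
  simp only [SetLike.le_def, mem_ann]

lemma ann_map {f : M →ₗ[R] N} (hf : Function.Injective f) (m : M) :
    (Submodule.span R {f m}).annihilator = (Submodule.span R {m}).annihilator := by
  ext a
  rw [mem_ann, mem_ann, ← map_smul, map_eq_zero_iff f hf]

lemma weakAss_mono {f : M →ₗ[R] N} (hf : Function.Injective f) :
    FlatCA.weakAss R M ⊆ FlatCA.weakAss R N :=
  fun _ ⟨m, hm⟩ => ⟨f m, by rwa [ann_map hf]⟩

lemma weakAss_subset_union {L : Type*} [AddCommGroup L] [Module R L] {f : M →ₗ[R] N}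
    {g : N →ₗ[R] L} (hf : Function.Injective f) (hfg : Function.Exact f g) :
    FlatCA.weakAss R N ⊆ FlatCA.weakAss R M ∪ FlatCA.weakAss R L := by
  intro p hp
  have := isPrime_of_mem hp
  obtain ⟨m, hm, hp⟩ := mem_weakAss_iff.mp hp
  by_cases h : ∃ r : R, ∃ y : M, f y = r • m ∧ ∀ a : R, a • y = 0 → a ∈ p
  · obtain ⟨r, y, hy, hy'⟩ := h
    refine .inl (mem_weakAss_iff.mpr ⟨y, hy', fun a ha => ?_⟩)
    obtain ⟨s, hs, n, hn⟩ := hp a ha
    refine ⟨s, hs, n, hf ?_⟩
    rw [map_smul, hy, map_zero, smul_comm, hn, smul_zero]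
  · refine .inr (mem_weakAss_iff.mpr ⟨g m, fun r hr => ?_, fun a ha => ?_⟩)
    · obtain ⟨y, hy⟩ := (hfg (r • m)).mp (by rw [map_smul, hr])
      push Not at h
      obtain ⟨a, ha, ha'⟩ := h r y hy
      refine ((‹p.IsPrime›).mem_or_mem (hm (a * r) ?_)).resolve_left ha'
      rw [mul_smul, ← hy, ← map_smul, ha, map_zero]
    · obtain ⟨s, hs, n, hn⟩ := hp a ha
      exact ⟨s, hs, n, by rw [← map_smul, hn, map_zero]⟩

section Tower

variable {R' : Type*} [CommRing R'] [Algebra R R'] [Module R' N] [IsScalarTower R R' N]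

lemma comap_ann (m : N) : (Submodule.span R' {m}).annihilator.comap (algebraMap R R') =
    (Submodule.span R {m}).annihilator := by
  ext a
  rw [Ideal.mem_comap, mem_ann, mem_ann, algebraMap_smul]

lemma weakAss_eq_image_of_surjective (h : Function.Surjective (algebraMap R R')) :
    FlatCA.weakAss R N = Ideal.comap (algebraMap R R') '' FlatCA.weakAss R' N := by
  ext p
  constructor
  · rintro ⟨m, hm⟩
    rw [← comap_ann (R' := R') m, Ideal.comap_minimalPrimes_eq_of_surjective h] at hm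
    obtain ⟨q, hq, rfl⟩ := hm
    exact ⟨q, ⟨m, hq⟩, rfl⟩
  · rintro ⟨q, ⟨m, hq⟩, rfl⟩
    refine ⟨m, ?_⟩
    rw [← comap_ann (R' := R') m, Ideal.comap_minimalPrimes_eq_of_surjective h]
    exact ⟨q, hq, rfl⟩

variable (S : Submonoid R) [IsLocalization S R']

include R' in
lemma disjoint_of_mem {p : Ideal R} (hp : p ∈ FlatCA.weakAss R N) :
    Disjoint (S : Set R) (p : Set R) := by
  have := isPrime_of_mem hp
  obtain ⟨m, hm, hp⟩ := mem_weakAss_iff.mp hp
  refine Set.disjoint_left.mpr fun s hs hsp => ?_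
  obtain ⟨t, ht, n, hn⟩ := hp s hsp
  refine ht (hm t ?_)
  rw [mul_comm, mul_smul, ← algebraMap_smul R', map_pow] at hn
  exact ((IsLocalization.map_units R' ⟨s, hs⟩).pow n).smul_eq_zero.mp hn

include S in
lemma mem_weakAss_comap_iff (q : Ideal R') [q.IsPrime] :
    q.comap (algebraMap R R') ∈ FlatCA.weakAss R N ↔ q ∈ FlatCA.weakAss R' N := by
  rw [mem_weakAss_iff, mem_weakAss_iff]
  refine exists_congr fun m => and_congr ⟨fun h a ha => ?_, fun h a ha => ?_⟩
    ⟨fun h a ha => ?_, fun h a ha => ?_⟩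
  · obtain ⟨⟨b, t⟩, hb⟩ := IsLocalization.surj S a
    have : b ∈ q.comap (algebraMap R R') := h b (by
      rw [← algebraMap_smul R', ← hb, mul_comm, mul_smul, ha, smul_zero])
    rw [Ideal.mem_comap, ← hb] at this
    exact (Ideal.unit_mul_mem_iff_mem q (IsLocalization.map_units R' t)).mp (mul_comm a _ ▸ this)
  · exact h _ (by rwa [algebraMap_smul])
  · obtain ⟨⟨b, t⟩, hb⟩ := IsLocalization.surj S a
    obtain ⟨s, hs, n, hn⟩ := h b (by rw [Ideal.mem_comap, ← hb]; exact q.mul_mem_right _ ha)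
    refine ⟨algebraMap R R' s, hs, n, ?_⟩
    rw [← algebraMap_smul R', map_mul, map_pow, ← hb, mul_pow, ← mul_assoc, mul_comm,
      mul_smul] at hn
    exact ((IsLocalization.map_units R' t).pow n).smul_eq_zero.mp hn
  · obtain ⟨s', hs, n, hn⟩ := h (algebraMap R R' a) ha
    obtain ⟨⟨b, t⟩, hb⟩ := IsLocalization.surj S s'
    refine ⟨b, fun hbq => hs ?_, n, ?_⟩
    · rw [Ideal.mem_comap, ← hb] at hbq
      exact (Ideal.unit_mul_mem_iff_mem q (IsLocalization.map_units R' t)).mp (mul_comm s' _ ▸ hbq)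
    · rw [← algebraMap_smul R', map_mul, map_pow, ← hb, mul_right_comm, mul_comm, mul_smul, hn,
        smul_zero]

include S in
lemma weakAss_eq_image_of_isLocalization :
    FlatCA.weakAss R N = Ideal.comap (algebraMap R R') '' FlatCA.weakAss R' N := by
  ext p
  constructor
  · intro hp
    have := isPrime_of_mem hp
    have hd := disjoint_of_mem (R' := R') S hp
    have := IsLocalization.isPrime_of_isPrime_disjoint S R' p ‹_› hd
    have e := IsLocalization.under_map_of_isPrime_disjoint S R' ‹p.IsPrime› hd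
    refine ⟨p.map (algebraMap R R'), (mem_weakAss_comap_iff S _).mp ?_, e⟩
    rw [show (p.map (algebraMap R R')).comap (algebraMap R R') = p from e]
    exact hp
  · rintro ⟨q, hq, rfl⟩
    have := isPrime_of_mem hq
    exact (mem_weakAss_comap_iff S q).mpr hq

end Tower

variable (S : Submonoid R)

lemma mk_eq_zero {m : M} {t : S} : LocalizedModule.mk m t = 0 ↔ ∃ c : S, (c : R) • m = 0 := by
  rw [← LocalizedModule.zero_mk (R := R) (S := S) (M := M) 1, LocalizedModule.mk_eq]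
  exact ⟨fun ⟨u, hu⟩ => ⟨u, by simpa [Submonoid.smul_def] using hu⟩,
    fun ⟨u, hu⟩ => ⟨u, by simpa [Submonoid.smul_def] using hu⟩⟩

lemma mem_weakAss_localizedModule_iff {p : Ideal R} [p.IsPrime]
    (hS : Disjoint (S : Set R) (p : Set R)) :
    p ∈ FlatCA.weakAss R (LocalizedModule S M) ↔ p ∈ FlatCA.weakAss R M := by
  constructor
  · intro h
    obtain ⟨x, hx, hp⟩ := mem_weakAss_iff.mp h
    induction x using LocalizedModule.induction_on with
    | h m t =>
      refine mem_weakAss_iff.mpr ⟨m, fun a ha => hx a ?_, fun f hf => ?_⟩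
      · rw [LocalizedModule.smul'_mk, ha, LocalizedModule.zero_mk]
      · obtain ⟨s, hs, n, hn⟩ := hp f hf
        rw [LocalizedModule.smul'_mk, mk_eq_zero] at hn
        obtain ⟨c, hc⟩ := hn
        exact ⟨c * s, (‹p.IsPrime›).mul_notMem (Set.disjoint_left.mp hS c.2) hs, n,
          by rw [mul_assoc, mul_smul]; exact hc⟩
  · intro h
    obtain ⟨m, hm, hp⟩ := mem_weakAss_iff.mp h
    refine mem_weakAss_iff.mpr ⟨LocalizedModule.mk m 1, fun a ha => ?_, fun f hf => ?_⟩
    · rw [LocalizedModule.smul'_mk, mk_eq_zero] at ha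
      obtain ⟨c, hc⟩ := ha
      exact ((‹p.IsPrime›).mem_or_mem (hm _ ((mul_smul (c : R) a m).trans hc))).resolve_left
        (Set.disjoint_left.mp hS c.2)
    · obtain ⟨s, hs, n, hn⟩ := hp f hf
      exact ⟨s, hs, n, by rw [LocalizedModule.smul'_mk, hn, LocalizedModule.zero_mk]⟩

lemma maximalIdeal_mem_weakAss_iff [IsLocalRing R] :
    IsLocalRing.maximalIdeal R ∈ FlatCA.weakAss R M ↔
      IsAssociatedPrime (IsLocalRing.maximalIdeal R) M := by
  unfold IsAssociatedPrime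
  rw [Submodule.isAssociatedPrime_def]
  rw [and_iff_right (inferInstance : (IsLocalRing.maximalIdeal R).IsPrime)]
  refine exists_congr fun m => ?_
  have e : (⊥ : Submodule R M).colon {m} = (Submodule.span R {m}).annihilator := by
    ext a; simp [Submodule.mem_colon_singleton, mem_ann]
  rw [e]
  constructor
  · intro h
    refine le_antisymm ?_ ((Ideal.IsPrime.radical_le_iff inferInstance).mpr h.1.2)
    rw [Ideal.radical_eq_sInf]
    refine le_sInf fun q hq => h.2 ⟨hq.2, hq.1⟩ (IsLocalRing.le_maximalIdeal hq.2.ne_top)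
  · intro h
    refine ⟨⟨inferInstance, h ▸ Ideal.le_radical⟩, fun q hq _ => ?_⟩
    rw [h]; exact (hq.1.radical_le_iff).mpr hq.2

lemma weakAss_self_of_isReduced [IsReduced R] : FlatCA.weakAss R R = minimalPrimes R := by
  ext p
  constructor
  · intro hp
    have hpp := isPrime_of_mem hp
    obtain ⟨m, hm, hp⟩ := mem_weakAss_iff.mp hp
    have hmp : m ∉ p := fun hmp => by
      obtain ⟨s, hs, n, hn⟩ := hp m hmp
      refine hs (hm s (IsReduced.eq_zero _ ⟨n + 1, ?_⟩))
      simp only [smul_eq_mul] at hn ⊢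
      calc (s * m) ^ (n + 1) = s ^ n * (s * m ^ n * m) := by ring
        _ = 0 := by rw [hn, mul_zero]
    refine (minimalPrimes_iff (I := ⊥)).mpr ⟨bot_le, fun f hf => ?_⟩
    obtain ⟨s, hs, n, hn⟩ := hp f hf
    refine ⟨s * m, hpp.mul_notMem hs hmp, n, ?_⟩
    rw [Ideal.mem_bot, mul_right_comm]; exact hn
  · intro hp
    refine ⟨1, ?_⟩
    have : (Submodule.span R {(1 : R)}).annihilator = ⊥ := by
      ext a; rw [mem_ann, smul_eq_mul, mul_one, Ideal.mem_bot]
    rw [this]; exact hp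

lemma mem_ass_of_fg {p : Ideal R} [hpp : p.IsPrime] (hfg : p.FG)
    (hp : p ∈ FlatCA.weakAss R M) : p ∈ FlatCA.ass R M := by
  classical
  obtain ⟨m, hm, hp⟩ := mem_weakAss_iff.mp hp
  have hex : ∃ k, ∃ t ∉ p, ∀ y ∈ p ^ k, (t * y) • m = 0 := by
    obtain ⟨G, hG⟩ := hfg
    choose! s hs n hn using fun f (hf : f ∈ G) => hp f (hG ▸ Ideal.subset_span hf)
    let t := ∏ f ∈ G, s f
    have ht : t ∉ p := fun h => by
      obtain ⟨f, hf, hf'⟩ := hpp.prod_mem_iff.mp h
      exact hs f hf hf'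
    let J := ((Submodule.span R {t • m}).annihilator)
    have hle : p ≤ J.radical := by
      rw [← hG, Ideal.span_le]
      intro f hf
      refine ⟨n f, mem_ann.mpr ?_⟩
      obtain ⟨c, hc⟩ := Finset.dvd_prod_of_mem s hf
      rw [← mul_smul, show f ^ n f * t = c * (s f * f ^ n f) by rw [show t = _ from hc]; ring,
        mul_smul, hn f hf, smul_zero]
    obtain ⟨k, hk⟩ := Ideal.exists_pow_le_of_le_radical_of_fg hle ⟨G, hG⟩
    exact ⟨k, t, ht, fun y hy => by rw [mul_comm, mul_smul]; exact mem_ann.mp (hk hy)⟩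
  obtain ⟨t, ht, ht'⟩ := Nat.find_spec hex
  have h0 : Nat.find hex ≠ 0 := fun h => by
    rw [h] at ht'
    exact ht (hm t (by simpa using ht' 1 (by simp)))
  obtain ⟨y, hy, hy'⟩ : ∃ y ∈ p ^ (Nat.find hex - 1), ∀ a : R, (a * (t * y)) • m = 0 → a ∈ p := by
    by_contra hc
    push Not at hc
    choose! a ha ha' using hc
    obtain ⟨G, hG⟩ := (Submodule.FG.pow hfg (Nat.find hex - 1))
    have hG' : ∀ g ∈ G, g ∈ p ^ (Nat.find hex - 1) := fun g hg => hG ▸ Submodule.subset_span hg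
    refine Nat.find_min hex (Nat.sub_lt (Nat.pos_of_ne_zero h0) one_pos)
      ⟨(∏ g ∈ G, a g) * t, hpp.mul_notMem (fun h => ?_) ht, fun z hz => ?_⟩
    · obtain ⟨g, hg, hg'⟩ := hpp.prod_mem_iff.mp h
      exact ha' g (hG' g hg) hg'
    · rw [← hG] at hz
      rw [mul_comm, mul_smul]
      refine mem_ann.mp ((Submodule.span_le.mpr fun g hg => ?_) hz)
      refine mem_ann.mpr ?_
      obtain ⟨c, hc⟩ := Finset.dvd_prod_of_mem a hg
      rw [← mul_smul, show g * ((∏ g ∈ G, a g) * t) = c * (a g * (t * g)) by rw [hc]; ring,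
        mul_smul, ha g (hG' g hg), smul_zero]
  refine ⟨hpp, (t * y) • m, le_antisymm (fun f hf => mem_ann.mpr ?_) fun a ha => hy' a ?_⟩
  · rw [← mul_smul, show f * (t * y) = t * (y * f) by ring]
    refine ht' _ ?_
    rw [← Nat.sub_one_add_one h0, pow_succ]
    exact Ideal.mul_mem_mul hy hf
  · rw [mul_smul]; exact mem_ann.mp ha

lemma mem_weakAss_of_mem_ass {p : Ideal R} (hp : p ∈ FlatCA.ass R M) :
    p ∈ FlatCA.weakAss R M := by
  obtain ⟨h, m, rfl⟩ := hp
  exact ⟨m, ⟨h, le_rfl⟩, fun q hq _ => hq.2⟩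

lemma eq_zero_of_forall_mk_eq_zero {x : M}
    (hx : ∀ (p : Ideal R) [p.IsPrime], p ∈ FlatCA.weakAss R M →
      LocalizedModule.mkLinearMap p.primeCompl M x = 0) : x = 0 := by
  by_contra h0
  have htop : (Submodule.span R {x}).annihilator ≠ ⊤ := fun he => h0 (by
    simpa using mem_ann.mp (he.symm ▸ Submodule.mem_top :
      (1 : R) ∈ (Submodule.span R {x}).annihilator))
  obtain ⟨p, hp⟩ := Ideal.nonempty_minimalPrimes htop
  have := hp.1.1
  have h := hx p ⟨x, hp⟩
  rw [LocalizedModule.mkLinearMap_apply, mk_eq_zero] at h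
  obtain ⟨s, hs⟩ := h
  exact s.2 (hp.1.2 (mem_ann.mpr hs))

lemma ass_mono {f : M →ₗ[R] N} (hf : Function.Injective f) :
    FlatCA.ass R M ⊆ FlatCA.ass R N :=
  fun _ ⟨h, m, hm⟩ => ⟨h, f m, by rwa [ann_map hf]⟩

lemma ass_localizedModule_subset (hS : ∀ s ∈ S, IsSMulRegular M s) :
    FlatCA.ass R (LocalizedModule S M) ⊆ FlatCA.ass R M := by
  rintro p ⟨h, x, hx⟩
  induction x using LocalizedModule.induction_on with
  | h m t =>
    refine ⟨h, m, hx.trans ?_⟩
    ext a
    rw [mem_ann, mem_ann, LocalizedModule.smul'_mk, mk_eq_zero]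
    exact ⟨fun ⟨c, hc⟩ => (hS c c.2).right_eq_zero_of_smul hc, fun h => ⟨1, by simp [h]⟩⟩

lemma mem_ass_localizedModule {p : Ideal R} (hp : p ∈ FlatCA.ass R M)
    (hS : Disjoint (S : Set R) (p : Set R)) : p ∈ FlatCA.ass R (LocalizedModule S M) := by
  obtain ⟨h, m, hm⟩ := hp
  refine ⟨h, LocalizedModule.mk m 1, ?_⟩
  ext a
  rw [mem_ann, LocalizedModule.smul'_mk, mk_eq_zero]
  refine ⟨fun ha => ⟨1, by simpa using mem_ann.mp (hm ▸ ha)⟩, fun ⟨c, hc⟩ => ?_⟩
  have : (c : R) * a ∈ p := by rw [hm]; exact mem_ann.mpr ((mul_smul _ _ _).trans hc)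
  exact (h.mem_or_mem this).resolve_left (Set.disjoint_left.mp hS c.2)

lemma injective_mk (hS : ∀ s ∈ S, IsSMulRegular M s) :
    Function.Injective (LocalizedModule.mkLinearMap S M) := by
  rw [injective_iff_map_eq_zero]
  intro m hm
  rw [LocalizedModule.mkLinearMap_apply, mk_eq_zero] at hm
  obtain ⟨c, hc⟩ := hm
  exact (hS c c.2).right_eq_zero_of_smul hc

end Groth.Agent.WeakAss
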